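import Groth.Agent.TensorMod.Dual
import Groth.Agent.DCohBridge.Flat
import Groth.Agent.DCohBridge.Perfect
import Groth.Prelude.Def_DCoh4
import Mathlib.CategoryTheory.Adjunction.Mates

/-!
# Exactness of `Hom(A, -)` and `A ⊗ -` for finite locally free `A`
-/

set_option autoImplicit false
set_option linter.style.haveILetI false

noncomputable section

universe u

open CategoryTheory CategoryTheory.Limits AlgebraicGeometry TopologicalSpace Opposite

namespace Groth.Agent.SheafHomLib

section Site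

variable {C : Type u} [SmallCategory C] {J : GrothendieckTopology C} {O : Sheaf J CommRingCat.{u}}

/-- `M` is a direct summand of a finite free module. -/
def IsSummand (M : ModSite.Mod O) : Prop :=
  ∃ (n : ℕ) (a : Fin n → (M ⟶ ModSite.unit O)) (b : Fin n → (ModSite.unit O ⟶ M)),
    ∑ i, a i ≫ b i = 𝟙 M

lemma flip_map_add {M N : ModSite.Mod O} (f g : M ⟶ N) :
    (ModSite.tensorBi O).flip.map (f + g) =
      (ModSite.tensorBi O).flip.map f + (ModSite.tensorBi O).flip.map g := by
  refine NatTrans.ext (funext fun G => ?_)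
  exact ((ModSite.tensorBi O).obj G).map_add

theorem sheafHom_map_epi_of_isSummand {M : ModSite.Mod O} [ModSite.HasSheafHom M] (h : IsSummand M)
    {G G' : ModSite.Mod O} (g : G ⟶ G') [Epi g] : Epi ((ModSite.sheafHom M).map g) := by
  obtain ⟨n, a, b, hab⟩ := h
  let F := (ModSite.tensorBi O).flip
  let R := ModSite.sheafHom M
  let adj : F.obj M ⊣ R := ModSite.sheafHomAdj M
  haveI : R.Additive := adj.right_adjoint_additive
  let u' := SiteBase.tensorUnitObjIso O
  let p : Fin n → (R ⟶ 𝟭 _) := fun i => conjugateEquiv adj Adjunction.id (u'.inv ≫ F.map (b i))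
  let q : Fin n → (𝟭 _ ⟶ R) := fun i => conjugateEquiv Adjunction.id adj (F.map (a i) ≫ u'.hom)
  let c : (F.obj M ⟶ F.obj M) →+ (R ⟶ R) := AddMonoidHom.mk' (fun t => conjugateEquiv adj adj t)
    (fun s t => NatTrans.ext (funext fun x => by
      simp only [conjugateEquiv_apply_app, NatTrans.app_add]
      rw [R.map_add, Preadditive.add_comp, Preadditive.comp_add]))
  let d : (M ⟶ M) →+ (F.obj M ⟶ F.obj M) := AddMonoidHom.mk' (fun t => F.map t) flip_map_add
  have hpq : ∀ i, p i ≫ q i = c (d (a i ≫ b i)) := fun i => by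
    refine (conjugateEquiv_comp adj Adjunction.id adj _ _).trans ?_
    change _ = conjugateEquiv adj adj (F.map (a i ≫ b i))
    congr 1
    rw [Category.assoc, Iso.hom_inv_id_assoc, ← Functor.map_comp]
  have hsum : ∑ i, p i ≫ q i = 𝟙 R := by
    simp only [hpq]
    rw [← map_sum, ← map_sum, hab]
    change conjugateEquiv adj adj (F.map (𝟙 M)) = 𝟙 R
    rw [F.map_id, conjugateEquiv_id]
  refine Preadditive.epi_of_cancel_zero _ fun {K} k hk => ?_
  have h1 : ∀ i, (q i).app G' ≫ k = 0 := fun i => by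
    rw [← cancel_epi g, comp_zero, ← Category.assoc]
    erw [(q i).naturality g]
    rw [Category.assoc, hk, comp_zero]
  have h2 : (∑ i, p i ≫ q i).app G' ≫ k = k := by
    rw [hsum, NatTrans.id_app]
    exact Category.id_comp k
  rw [← h2, NatTrans.app_sum, Preadditive.sum_comp]
  exact Finset.sum_eq_zero fun i _ => by rw [NatTrans.comp_app, Category.assoc, h1 i, comp_zero]

end Site

lemma epi_map_of_natIso {C D : Type*} [Category C] [Category D] {F G : C ⥤ D} (e : F ≅ G) {X Y : C}
    (f : X ⟶ Y) (h : Epi (G.map f)) : Epi (F.map f) := by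
  have := NatIso.naturality_2 e f
  rw [← this]
  infer_instance

lemma isSummand_aux {D E : Type*} [Category D] [Category E] [Preadditive D] [Preadditive E]
    (F : D ⥤ E) [F.Additive] [F.Full] [F.Faithful] {M I : D} {M' I' L : E} (φ : F.obj M ≅ M') (η : F.obj I ≅ I')
    (t : M' ≅ L) {n : ℕ} (p : Fin n → (L ⟶ I')) (i : Fin n → (I' ⟶ L)) (h : ∑ k, p k ≫ i k = 𝟙 L) :
    ∃ (a : Fin n → (M ⟶ I)) (b : Fin n → (I ⟶ M)), ∑ k, a k ≫ b k = 𝟙 M := by
  refine ⟨fun k => F.preimage (φ.hom ≫ t.hom ≫ p k ≫ η.inv),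
    fun k => F.preimage (η.hom ≫ i k ≫ t.inv ≫ φ.inv), F.map_injective ?_⟩
  rw [Functor.map_sum, F.map_id]
  simp only [Functor.map_comp, Functor.map_preimage, Category.assoc, Iso.inv_hom_id_assoc]
  calc ∑ k, φ.hom ≫ t.hom ≫ p k ≫ i k ≫ t.inv ≫ φ.inv
      = φ.hom ≫ t.hom ≫ (∑ k, p k ≫ i k) ≫ t.inv ≫ φ.inv := by
        simp only [Preadditive.comp_sum, Preadditive.sum_comp, Category.assoc]
    _ = 𝟙 _ := by rw [h]; simp

section Scheme

variable {X : Scheme.{u}}

lemma restr_map_epi (U : X.Opens) {M N : X.Modules} (f : M ⟶ N) [Epi f] :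
    Epi ((ModSite.restr X.sheaf U).map f) := by
  haveI h1 : Epi ((Scheme.Modules.restrictFunctor U.ι).map f) :=
    haveI := (Scheme.Modules.restrictAdjunction U.ι).leftAdjoint_preservesColimits
    inferInstance
  refine (Scheme.Modules.overEquiv U).functor.epi_of_epi_map ?_
  exact epi_map_of_natIso (Scheme.Modules.overFunctorEquiv U) f h1

lemma eq_zero_of_restr {M N : X.Modules} (f : M ⟶ N)
    (h : ∀ x : X, ∃ U : X.Opens, x ∈ U ∧ (ModSite.restr X.sheaf U).map f = 0) : f = 0 := by
  choose U hU hf using h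
  refine Scheme.Modules.hom_ext _ _ fun W => ?_
  ext m
  refine TopCat.Sheaf.eq_of_locally_eq' ⟨N.presheaf, Scheme.Modules.isSheaf N⟩ (fun x : W => U x.1 ⊓ W) W
    (fun x => homOfLE inf_le_right) ?_ _ _ fun x => ?_
  · intro y hy
    exact Opens.mem_iSup.mpr ⟨⟨y, hy⟩, hU y, hy⟩
  · have h1 : f.app (U x.1 ⊓ W) = 0 := by
      have h2 := hf x.1
      ext z
      exact congrArg (fun t : (ModSite.restr X.sheaf (U x.1)).obj M ⟶ (ModSite.restr X.sheaf (U x.1)).obj N =>
        t.val.app (op (Over.mk (homOfLE (inf_le_left : U x.1 ⊓ W ≤ U x.1)))) z) h2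
    have h4 := ConcreteCategory.congr_hom (f.mapPresheaf.naturality (homOfLE (inf_le_right : U x.1 ⊓ W ≤ W)).op) m
    refine h4.symm.trans ?_
    show f.app (U x.1 ⊓ W) _ = _
    rw [h1]
    exact (map_zero _).symm

lemma exists_isSummand {A : X.Modules} (hA : FlatMod.IsFinLocFree A) (x : X) :
    ∃ U : X.Opens, x ∈ U ∧ IsSummand (O := X.sheaf.over U) ((ModSite.restr X.sheaf U).obj A) := by
  obtain ⟨U, n, hx, ⟨t⟩⟩ := hA x
  refine ⟨U, hx, ?_⟩
  let E := Scheme.Modules.overEquiv U
  haveI := preservesBinaryBiproducts_of_preservesBinaryCoproducts E.functor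
  haveI : E.functor.Additive := Functor.additive_of_preservesBinaryBiproducts _
  let φ : E.functor.obj ((ModSite.restr X.sheaf U).obj A) ≅ A.restrict U.ι :=
    (Scheme.Modules.overFunctorEquiv U).app A
  let η : E.functor.obj (ModSite.unit (X.sheaf.over U)) ≅ Coh.structureModule (U : Scheme.{u}) :=
    (Scheme.Modules.overFunctorEquiv U).app (SheafOfModules.unit X.ringCatSheaf) ≪≫
      Scheme.Modules.restrictUnitIso U.ι
  let i : Fin n → (Coh.structureModule (U : Scheme.{u}) ⟶ FlatMod.freeMod (↑U) n) :=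
    fun k => Sigma.ι (fun _ : Fin n => Coh.structureModule (U : Scheme.{u})) k
  let p : Fin n → (FlatMod.freeMod (↑U) n ⟶ Coh.structureModule (U : Scheme.{u})) :=
    fun k => Sigma.desc fun j => if j = k then 𝟙 _ else 0
  have hip : ∑ k, p k ≫ i k = 𝟙 _ := by
    refine Sigma.hom_ext _ _ fun j => ?_
    simp [p, i, Preadditive.comp_sum, ite_comp]
  exact ⟨n, isSummand_aux E.functor φ η t p i hip⟩

theorem modSheafHom_map_epi {A : X.Modules} (hA : FlatMod.IsFinLocFree A)
    [ModSite.HasSheafHom (O := X.sheaf) A] {G G' : X.Modules} (g : G ⟶ G') [Epi g] :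
    Epi ((ModSite.sheafHom (O := X.sheaf) A).map g) := by
  refine Preadditive.epi_of_cancel_zero _ fun {K} k hk => eq_zero_of_restr k fun x => ?_
  obtain ⟨U, hx, hS⟩ := exists_isSummand hA x
  haveI : ModSite.HasSheafHom (O := X.sheaf.over U) ((ModSite.restr X.sheaf U).obj A) :=
    SiteBase.hasSheafHom (O := X.sheaf.over U) _
  haveI := restr_map_epi U g
  have h6 := sheafHom_map_epi_of_isSummand hS ((ModSite.restr X.sheaf U).map g)
  refine ⟨U, hx, ?_⟩
  let e := SiteBase.restrSheafHomIso (O := X.sheaf) U A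
  haveI : Epi ((ModSite.restr X.sheaf U).map ((ModSite.sheafHom (O := X.sheaf) A).map g)) :=
    epi_map_of_natIso e g h6
  rw [← cancel_epi ((ModSite.restr X.sheaf U).map ((ModSite.sheafHom (O := X.sheaf) A).map g)), comp_zero,
    ← Functor.map_comp, hk]
  rfl

/-- The two internal homs agree. -/
def isoModSite (A : X.Modules) [DCoh.HasSheafHom A] :
    DCoh.sheafHom A ≅ ModSite.sheafHom (O := X.sheaf) A :=
  (DCoh.sheafHomAdj A).rightAdjointUniq
    ((ModSite.sheafHomAdj (O := X.sheaf) A).ofNatIsoLeft (SiteBase.braidIso (O := X.sheaf) A).symm)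

theorem preservesEpimorphisms_sheafHom {A : X.Modules} [DCoh.HasSheafHom A] (hA : FlatMod.IsFinLocFree A) :
    (DCoh.sheafHom A).PreservesEpimorphisms :=
  haveI h : Functor.PreservesEpimorphisms (C := X.Modules) (D := X.Modules) (ModSite.sheafHom (O := X.sheaf) A) :=
    ⟨fun g hg => @modSheafHom_map_epi _ A hA _ _ _ g hg⟩
  @Functor.PreservesEpimorphisms.of_iso X.Modules _ X.Modules _ _ _ h (isoModSite A).symm

theorem preservesFiniteColimits_sheafHom {A : X.Modules} [DCoh.HasSheafHom A] (hA : FlatMod.IsFinLocFree A) :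
    PreservesFiniteColimits (DCoh.sheafHom A) := by
  haveI := preservesEpimorphisms_sheafHom hA
  haveI : (DCoh.sheafHom A).Additive := (DCoh.sheafHomAdj A).right_adjoint_additive
  haveI := (DCoh.sheafHomAdj A).rightAdjoint_preservesLimits
  haveI : PreservesFiniteLimits (DCoh.sheafHom A) := PreservesLimitsOfSize.preservesFiniteLimits.{0, 0} _
  have h := Functor.preservesFiniteColimits_iff_forall_exact_map_and_epi (DCoh.sheafHom A)
  refine h.2 fun S hS => ?_
  haveI := hS.epi_g
  exact ⟨((Functor.preservesFiniteLimits_iff_forall_exact_map_and_mono (DCoh.sheafHom A)).1 inferInstance S hS).1,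
    inferInstance⟩

theorem preservesFiniteLimits_tensor {A : X.Modules} (hA : FlatMod.IsFinLocFree A) :
    PreservesFiniteLimits ((DCoh.tensorBi (X := X)).obj A) := by
  have h := DCohBridge.siteFlat_of_isFlat (DCohBridge.isFlat_of_finLocFree hA)
  exact @preservesFiniteLimits_of_natIso X.Modules _ X.Modules _ _ _ (SiteBase.braidIso (O := X.sheaf) A).symm h.1

end Scheme

end Groth.Agent.SheafHomLib
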