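import Groth.Agent.GenLocus.PullFrame
import Groth.Agent.QCohBase.Exact
import Groth.Agent.SiteBase.ModFlat

/-!
# Injectivity of a module on a scheme is local
-/

set_option autoImplicit false
set_option linter.style.haveILetI false

noncomputable section

universe u

open CategoryTheory CategoryTheory.Limits AlgebraicGeometry TopologicalSpace Opposite
open Groth.Agent.QCohBase

namespace Groth.Agent.SheafHomLib

variable {X : Scheme.{u}}

/-- A morphism on sections, as a linear map. -/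
def appL {M N : X.Modules} (φ : M ⟶ N) (W : X.Opens) : Γ(M, W) →ₗ[Γ(X, W)] Γ(N, W) where
  toFun := fun m => φ.app W m
  map_add' := map_add (φ.app W).hom
  map_smul' := fun r m => Scheme.Modules.Hom.app_smul φ r m

/-- Families of partial graphs. -/
abbrev Gr (B J : X.Modules) := ∀ W : X.Opens, Submodule Γ(X, W) (Γ(B, W) × Γ(J, W))

/-- A partial extension of `f` along `i`. -/
structure IsPExt {A B J : X.Modules} (i : A ⟶ B) (f : A ⟶ J) (g : Gr B J) : Prop where
  res : ∀ {W W' : X.Opens} (h : W' ≤ W) {p : Γ(B, W) × Γ(J, W)},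
    p ∈ g W → (mres B h p.1, mres J h p.2) ∈ g W'
  fn : ∀ (W : X.Opens) (y : Γ(J, W)), ((0 : Γ(B, W)), y) ∈ g W → y = 0
  base : ∀ (W : X.Opens) (a : Γ(A, W)), (i.app W a, f.app W a) ∈ g W

lemma exists_maximal {A B J : X.Modules} (i : A ⟶ B) [Mono i] (f : A ⟶ J) :
    ∃ g : Gr B J, Maximal (IsPExt i f) g := by
  let g₀ : Gr B J := fun W => LinearMap.range ((appL i W).prod (appL f W))
  have h₀ : IsPExt i f g₀ := by
    refine ⟨?_, ?_, fun W a => ⟨a, rfl⟩⟩
    · rintro W W' h _ ⟨a, rfl⟩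
      exact ⟨mres A h a, Prod.ext (GenLocus.app_mres i h a).symm (GenLocus.app_mres f h a).symm⟩
    · rintro W y ⟨a, ha⟩
      have h1 : i.app W a = 0 := congrArg Prod.fst ha
      have h2 : f.app W a = y := congrArg Prod.snd ha
      rw [← h2, app_injective_of_mono i W (h1.trans (map_zero _).symm), map_zero]
  obtain ⟨g, -, hg⟩ := zorn_le_nonempty₀ {g : Gr B J | IsPExt i f g} (fun c hc hchain y hy => by
    have hd : ∀ W, Directed (· ≤ ·) (fun t : c => t.1 W) := fun W s t => by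
      rcases hchain.total s.2 t.2 with h | h
      · exact ⟨t, h W, le_refl _⟩
      · exact ⟨s, le_refl _, h W⟩
    haveI : Nonempty c := ⟨⟨y, hy⟩⟩
    refine ⟨fun W => ⨆ t : c, t.1 W, ⟨?_, ?_, ?_⟩, fun z hz W => le_iSup (fun t : c => t.1 W) ⟨z, hz⟩⟩
    · intro W W' h p hp
      obtain ⟨t, ht⟩ := (Submodule.mem_iSup_of_directed _ (hd W)).1 hp
      exact le_iSup (fun t : c => t.1 W') t ((hc t.2).res h ht)
    · intro W z hz
      obtain ⟨t, ht⟩ := (Submodule.mem_iSup_of_directed _ (hd W)).1 hz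
      exact (hc t.2).fn W z ht
    · intro W a
      exact le_iSup (fun t : c => t.1 W) ⟨y, hy⟩ ((hc hy).base W a)) g₀ h₀
  exact ⟨g, hg⟩

/-- The locally-in closure of a family of graphs. -/
def sat {B J : X.Modules} (g : Gr B J)
    (res : ∀ {W W' : X.Opens} (h : W' ≤ W) {p : Γ(B, W) × Γ(J, W)},
      p ∈ g W → (mres B h p.1, mres J h p.2) ∈ g W') : Gr B J := fun W =>
  { carrier := {p | ∀ x ∈ W, ∃ (W' : X.Opens) (h : W' ≤ W), x ∈ W' ∧ (mres B h p.1, mres J h p.2) ∈ g W'}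
    zero_mem' := fun x hx => ⟨W, le_rfl, hx, by
      simp only [Prod.fst_zero, Prod.snd_zero, map_zero]
      exact (g W).zero_mem⟩
    add_mem' := fun {p q} hp hq x hx => by
      obtain ⟨V, hV, hxV, hpV⟩ := hp x hx
      obtain ⟨V', hV', hxV', hqV⟩ := hq x hx
      refine ⟨V ⊓ V', inf_le_left.trans hV, ⟨hxV, hxV'⟩, ?_⟩
      have h1 := res (inf_le_left : V ⊓ V' ≤ V) hpV
      have h2 := res (inf_le_right : V ⊓ V' ≤ V') hqV
      simp only [mres_mres] at h1 h2
      simp only [Prod.fst_add, Prod.snd_add, map_add]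
      exact (g _).add_mem h1 h2
    smul_mem' := fun r p hp x hx => by
      obtain ⟨V, hV, hxV, hpV⟩ := hp x hx
      refine ⟨V, hV, hxV, ?_⟩
      simp only [Prod.smul_fst, Prod.smul_snd, mres_smul]
      exact (g V).smul_mem (ores hV r) hpV }

lemma eq_zero_of_locally {J : X.Modules} {W : X.Opens} (y : Γ(J, W))
    (h : ∀ x ∈ W, ∃ (W' : X.Opens) (hW : W' ≤ W), x ∈ W' ∧ mres J hW y = 0) : y = 0 := by
  choose V hV hxV hy using h
  refine TopCat.Sheaf.eq_of_locally_eq' ⟨J.presheaf, Scheme.Modules.isSheaf J⟩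
    (fun x : W => V x.1 x.2) W (fun x => homOfLE (hV x.1 x.2)) ?_ _ _ fun x => ?_
  · intro z hz
    exact Opens.mem_iSup.mpr ⟨⟨z, hz⟩, hxV z hz⟩
  · exact (hy x.1 x.2).trans (map_zero _).symm

lemma mem_of_locally {A B J : X.Modules} {i : A ⟶ B} {f : A ⟶ J} {g : Gr B J}
    (hg : Maximal (IsPExt i f) g) {W : X.Opens} (p : Γ(B, W) × Γ(J, W))
    (hp : ∀ x ∈ W, ∃ (W' : X.Opens) (h : W' ≤ W), x ∈ W' ∧ (mres B h p.1, mres J h p.2) ∈ g W') :
    p ∈ g W := by
  have hle : g ≤ sat g hg.1.res := fun W q hq x hx => ⟨W, le_rfl, hx, hg.1.res le_rfl hq⟩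
  refine hg.2 (y := sat g hg.1.res) ⟨?_, ?_, fun W a => hle W (hg.1.base W a)⟩ hle W hp
  · intro W W' h q hq x hx
    obtain ⟨V, hV, hxV, hqV⟩ := hq x (h hx)
    refine ⟨V ⊓ W', inf_le_right, ⟨hxV, hx⟩, ?_⟩
    have h1 := hg.1.res (inf_le_left : V ⊓ W' ≤ V) hqV
    simp only [mres_mres] at h1 ⊢
    exact h1
  · intro W y hy
    refine eq_zero_of_locally y fun x hx => ?_
    obtain ⟨V, hV, hxV, hyV⟩ := hy x hx
    rw [map_zero] at hyV
    exact ⟨V, hV, hxV, hg.1.fn V _ hyV⟩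

/-- `J` lifts partial maps out of ideal subpresheaves of `O_U`, given as graphs. -/
def LiftsIdeals (J : X.Modules) (U : X.Opens) : Prop :=
  ∀ (q : ∀ W : X.Opens, Submodule Γ(X, W) (Γ(X, W) × Γ(J, W))),
    (∀ {W W' : X.Opens} (h : W' ≤ W) {p : Γ(X, W) × Γ(J, W)},
      p ∈ q W → (ores h p.1, mres J h p.2) ∈ q W') →
    (∀ (W : X.Opens) (y : Γ(J, W)), W ≤ U → ((0 : Γ(X, W)), y) ∈ q W → y = 0) →
    ∃ y₀ : Γ(J, U), ∀ (W : X.Opens) (h : W ≤ U) (a : Γ(X, W)) (y : Γ(J, W)),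
      (a, y) ∈ q W → y = a • mres J h y₀

/-- A submodule of `O × J` which is functional, extended by an injective module. -/
lemma exists_lift_pmod {C : Type u} [SmallCategory C] {K : GrothendieckTopology C}
    {O : Sheaf K CommRingCat.{u}} (J : ModSite.Mod O) [Injective J] {P : SiteBase.PMod O}
    (p : P ⟶ (SiteBase.incl O).obj (ModSite.unit O)) [Mono p] (q : P ⟶ (SiteBase.incl O).obj J) :
    ∃ h : (SiteBase.incl O).obj (ModSite.unit O) ⟶ (SiteBase.incl O).obj J, p ≫ h = q := by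
  haveI : Injective ((SiteBase.incl O).obj J) :=
    Injective.injective_of_adjoint (SiteBase.shAdj O) J
  exact ⟨Injective.factorThru q p, Injective.comp_factorThru q p⟩

section Pairs

variable {J : X.Modules} (q : ∀ W : X.Opens, Submodule Γ(X, W) (Γ(X, W) × Γ(J, W)))
  (qres : ∀ {W W' : X.Opens} (h : W' ≤ W) {p : Γ(X, W) × Γ(J, W)},
    p ∈ q W → (ores h p.1, mres J h p.2) ∈ q W')

/-- The pairs, as a presheaf on the opens of `U`. -/
def qMod (U : X.Opens) : SiteBase.PMod (X.sheaf.over U) where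
  obj W := ModuleCat.of Γ(X, W.unop.left) (q W.unop.left)
  map {W W'} k := ModuleCat.ofHom
    (Y := (ModuleCat.restrictScalars (ores (X := X) (k.unop.left.le : W'.unop.left ≤ W.unop.left))).obj
      (ModuleCat.of Γ(X, W'.unop.left) (q W'.unop.left)))
    { toFun := fun p => ⟨_, qres k.unop.left.le p.2⟩
      map_add' := fun p p' => Subtype.ext (Prod.ext (map_add _ p.1.1 p'.1.1) (map_add _ p.1.2 p'.1.2))
      map_smul' := fun r p => Subtype.ext (Prod.ext (map_mul _ r p.1.1) (mres_smul J _ r p.1.2)) }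
  map_id W := by
    refine ModuleCat.hom_ext (LinearMap.ext fun p => Subtype.ext ?_)
    refine Prod.ext ?_ (mres_refl J _ p.1.2)
    change ores (le_refl _) p.1.1 = p.1.1
    rw [ores, show (homOfLE (le_refl W.unop.left)).op = 𝟙 _ from rfl, X.presheaf.map_id]
    rfl
  map_comp k k' := by
    refine ModuleCat.hom_ext (LinearMap.ext fun p => Subtype.ext ?_)
    exact Prod.ext (ores_ores k.unop.left.le k'.unop.left.le p.1.1).symm
      (mres_mres J k.unop.left.le k'.unop.left.le p.1.2).symm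

/-- first projection -/
def qFst (U : X.Opens) : qMod q qres U ⟶ (SiteBase.incl (X.sheaf.over U)).obj (ModSite.unit _) where
  app W := ModuleCat.ofHom (X := q W.unop.left) (Y := Γ(X, W.unop.left))
    ((LinearMap.fst Γ(X, W.unop.left) Γ(X, W.unop.left) Γ(J, W.unop.left)).comp
      (q W.unop.left).subtype)
  naturality _ := rfl

/-- second projection -/
def qSnd (U : X.Opens) :
    qMod q qres U ⟶ (SiteBase.incl (X.sheaf.over U)).obj ((ModSite.restr X.sheaf U).obj J) where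
  app W := ModuleCat.ofHom (X := q W.unop.left) (Y := Γ(J, W.unop.left))
    ((LinearMap.snd Γ(X, W.unop.left) Γ(X, W.unop.left) Γ(J, W.unop.left)).comp
      (q W.unop.left).subtype)
  naturality _ := rfl

end Pairs

theorem liftsIdeals_of_injective (J : X.Modules) (U : X.Opens)
    (hJ : Injective ((ModSite.restr X.sheaf U).obj J)) : LiftsIdeals J U := by
  intro q qres hfn
  haveI : Mono (qFst q qres U) := by
    refine ⟨fun {P} s t hst => ?_⟩
    ext W z
    refine Subtype.ext (Prod.ext ?_ ?_)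
    · exact congrArg (fun m => m.app W z) hst
    · have h1 : ((s.app W z).1 - (t.app W z).1) ∈ q W.unop.left :=
        Submodule.sub_mem _ (s.app W z).2 (t.app W z).2
      have h3 : ((s.app W z).1 - (t.app W z).1).1 = 0 :=
        sub_eq_zero.2 (congrArg (fun m => m.app W z) hst)
      refine sub_eq_zero.1 (hfn _ _ W.unop.hom.le ?_)
      rw [← h3]
      exact h1
  obtain ⟨φ, hφ⟩ := exists_lift_pmod ((ModSite.restr X.sheaf U).obj J) (qFst q qres U) (qSnd q qres U)
  let y₀ : Γ(J, U) := φ.app (op (Over.mk (homOfLE le_rfl))) (1 : Γ(X, U))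
  refine ⟨y₀, fun W h a y hy => ?_⟩
  let W' : (Over U)ᵒᵖ := op (Over.mk (homOfLE h))
  let p : q W := ⟨(a, y), hy⟩
  have h1 : φ.app W' a = y := congrArg (fun m => m.app W' p) hφ
  have h2 : φ.app W' (ores h (1 : Γ(X, U))) = mres J h y₀ :=
    PresheafOfModules.naturality_apply φ
      (Over.homMk (homOfLE h) : W'.unop ⟶ Over.mk (homOfLE (le_rfl : U ≤ U))).op (1 : Γ(X, U))
  refine h1.symm.trans ?_
  rw [← h2, map_one]
  refine Eq.trans ?_ ((φ.app W').hom.map_smul a (1 : Γ(X, W)))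
  exact congrArg (φ.app W') (mul_one a).symm

section Step

variable {B J : X.Modules} (g : Gr B J)
  (hres : ∀ {W W' : X.Opens} (h : W' ≤ W) {p : Γ(B, W) × Γ(J, W)},
    p ∈ g W → (mres B h p.1, mres J h p.2) ∈ g W')
  {V : X.Opens} (b : Γ(B, V))

/-- The pairs `(a, y)` with `(a • b, y)` in the graph. -/
def Q (W : X.Opens) : Submodule Γ(X, W) (Γ(X, W) × Γ(J, W)) where
  carrier := {p | p = 0 ∨ ∃ h : W ≤ V, (p.1 • mres B h b, p.2) ∈ g W}
  zero_mem' := Or.inl rfl
  add_mem' := by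
    rintro p q (rfl | ⟨h, hp⟩) hq
    · rwa [zero_add]
    · rcases hq with rfl | ⟨h', hq⟩
      · rw [add_zero]; exact Or.inr ⟨h, hp⟩
      · refine Or.inr ⟨h, ?_⟩
        rw [Prod.fst_add, Prod.snd_add, add_smul]
        exact (g W).add_mem hp hq
  smul_mem' := by
    rintro r p (rfl | ⟨h, hp⟩)
    · exact Or.inl (smul_zero r)
    · refine Or.inr ⟨h, ?_⟩
      rw [Prod.smul_fst, Prod.smul_snd, smul_eq_mul, mul_smul]
      exact (g W).smul_mem r hp

include hres in
lemma Q_res {W W' : X.Opens} (h : W' ≤ W) {p : Γ(X, W) × Γ(J, W)} (hp : p ∈ Q g b W) :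
    (ores h p.1, mres J h p.2) ∈ Q g b W' := by
  rcases hp with rfl | ⟨h', hp⟩
  · left; simp
  · refine Or.inr ⟨h.trans h', ?_⟩
    have h1 := hres h hp
    rw [mres_smul, mres_mres] at h1
    exact h1

include hres in
lemma exists_value (U : X.Opens) (hU : V ≤ U) (hfn : ∀ W y, ((0 : Γ(B, W)), y) ∈ g W → y = 0)
    (hJ : LiftsIdeals J U) :
    ∃ y₀ : Γ(J, V), ∀ (W : X.Opens) (h : W ≤ V) (a : Γ(X, W)) (y : Γ(J, W)),
      (a • mres B h b, y) ∈ g W → y = a • mres J h y₀ := by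
  obtain ⟨y₀, hy₀⟩ := hJ (Q g b) (fun h _ hp => Q_res g hres b h hp) (fun W y _ hy => by
    rcases hy with hy | ⟨h, hy⟩
    · exact congrArg Prod.snd hy
    · rw [zero_smul] at hy
      exact hfn _ _ hy)
  exact ⟨mres J hU y₀, fun W h a y hy => by rw [mres_mres]; exact hy₀ W _ a y (Or.inr ⟨h, hy⟩)⟩

end Step

/-- The partial extension enlarged by one section. -/
def adjoin {B J : X.Modules} (g : Gr B J) {V : X.Opens} (b : Γ(B, V)) (y₀ : Γ(J, V)) : Gr B J := fun W =>
  g W ⊔ ⨆ h : W ≤ V, Submodule.span Γ(X, W) {(mres B h b, mres J h y₀)}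

lemma mem_adjoin {B J : X.Modules} {g : Gr B J} {V : X.Opens} {b : Γ(B, V)} {y₀ : Γ(J, V)} {W : X.Opens}
    {p : Γ(B, W) × Γ(J, W)} :
    p ∈ adjoin g b y₀ W ↔
      p ∈ g W ∨ ∃ (h : W ≤ V) (a : Γ(X, W)), p - a • (mres B h b, mres J h y₀) ∈ g W := by
  by_cases hW : W ≤ V
  · rw [adjoin, iSup_pos hW, Submodule.mem_sup]
    constructor
    · rintro ⟨q, hq, z, hz, rfl⟩
      obtain ⟨a, rfl⟩ := Submodule.mem_span_singleton.1 hz
      exact Or.inr ⟨hW, a, by rwa [add_sub_cancel_right]⟩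
    · rintro (hp | ⟨h, a, hp⟩)
      · exact ⟨p, hp, 0, Submodule.zero_mem _, add_zero p⟩
      · exact ⟨_, hp, _, Submodule.mem_span_singleton.2 ⟨a, rfl⟩, sub_add_cancel p _⟩
  · rw [adjoin, iSup_neg hW, sup_bot_eq]
    exact ⟨Or.inl, fun h => h.elim id fun ⟨h', _⟩ => absurd h' hW⟩

/-- Baer's criterion. -/
theorem injective_of_liftsIdeals (J : X.Modules)
    (hloc : ∀ x : X, ∃ U : X.Opens, x ∈ U ∧ LiftsIdeals J U) :
    Injective J := by
  constructor
  intro A B f i _
  obtain ⟨g, hg⟩ := exists_maximal i f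
  have hval : ∀ (V U : X.Opens), V ≤ U → LiftsIdeals J U →
      ∀ b : Γ(B, V), ∃ y : Γ(J, V), (b, y) ∈ g V := by
    intro V U hVU hinj b
    obtain ⟨y₀, hy₀⟩ := exists_value g hg.1.res b U hVU hg.1.fn hinj
    have hle : g ≤ adjoin g b y₀ := fun W => le_sup_left
    have hmax : adjoin g b y₀ ≤ g := by
      refine hg.2 ⟨?_, ?_, fun W a => hle W (hg.1.base W a)⟩ hle
      · intro W W' h p hp
        rcases mem_adjoin.1 hp with hp | ⟨h', a, hp⟩
        · exact hle W' (hg.1.res h hp)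
        · refine mem_adjoin.2 (Or.inr ⟨h.trans h', ores h a, ?_⟩)
          have h1 := hg.1.res h hp
          simp only [Prod.fst_sub, Prod.snd_sub, Prod.smul_fst, Prod.smul_snd, map_sub, mres_smul,
            mres_mres] at h1
          exact h1
      · intro W y hy
        rcases mem_adjoin.1 hy with hy | ⟨h, a, hy⟩
        · exact hg.1.fn W y hy
        · have h1 : ((-a) • mres B h b, y - a • mres J h y₀) ∈ g W := by
            simpa only [Prod.smul_mk, Prod.mk_sub_mk, zero_sub, ← neg_smul] using hy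
          have h2 := hy₀ W h (-a) _ h1
          rw [neg_smul, sub_eq_iff_eq_add, neg_add_cancel] at h2
          exact h2
    exact ⟨y₀, hmax V (mem_adjoin.2 (Or.inr ⟨le_rfl, 1, by
      rw [one_smul, mres_refl, mres_refl, sub_self]; exact (g V).zero_mem⟩))⟩
  have huniq : ∀ (W : X.Opens) (b : Γ(B, W)) (y y' : Γ(J, W)),
      (b, y) ∈ g W → (b, y') ∈ g W → y = y' := fun W b y y' h h' => by
    have := (g W).sub_mem h h'
    rw [Prod.mk_sub_mk, sub_self] at this
    exact sub_eq_zero.1 (hg.1.fn W _ this)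
  have htot : ∀ (W : X.Opens) (b : Γ(B, W)), ∃ y : Γ(J, W), (b, y) ∈ g W := by
    intro W b
    choose U hxU hU using hloc
    choose y hy using fun x : X =>
      hval (U x ⊓ W) (U x) inf_le_left (hU x) (mres B inf_le_right b)
    obtain ⟨s, hs, -⟩ := TopCat.Sheaf.existsUnique_gluing' ⟨J.presheaf, Scheme.Modules.isSheaf J⟩
      (fun x : W => U x.1 ⊓ W) W (fun x => homOfLE inf_le_right)
      (fun z hz => Opens.mem_iSup.mpr ⟨⟨z, hz⟩, hxU z, hz⟩) (fun x => y x.1) (fun x x' => by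
        refine huniq _ (mres B (inf_le_left.trans inf_le_right : (U x.1 ⊓ W) ⊓ (U x'.1 ⊓ W) ≤ W) b) _ _ ?_ ?_
        · have := hg.1.res (inf_le_left : (U x.1 ⊓ W) ⊓ (U x'.1 ⊓ W) ≤ _) (hy x.1)
          rwa [mres_mres] at this
        · have := hg.1.res (inf_le_right : (U x.1 ⊓ W) ⊓ (U x'.1 ⊓ W) ≤ _) (hy x'.1)
          rwa [mres_mres] at this)
    refine ⟨s, mem_of_locally hg _ fun x hx => ⟨U x ⊓ W, inf_le_right, ⟨hxU x, hx⟩, ?_⟩⟩
    rw [show mres J (inf_le_right : U x ⊓ W ≤ W) s = y x from hs ⟨x, hx⟩]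
    exact hy x
  choose φ hφ using htot
  refine ⟨GenLocus.modHomMk (fun W => AddMonoidHom.mk' (φ W) fun b b' =>
    huniq W _ _ _ (hφ W _) ((g W).add_mem (hφ W b) (hφ W b'))) (fun W W' h b => ?_) (fun W r b => ?_), ?_⟩
  · exact huniq W' _ _ _ (hg.1.res h (hφ W b)) (hφ W' _)
  · exact huniq W _ _ _ (hφ W _) ((g W).smul_mem r (hφ W b))
  · ext W a
    rw [Scheme.Modules.Hom.comp_app, ConcreteCategory.comp_apply, GenLocus.modHomMk_app]
    exact huniq W _ _ _ (hφ W _) (hg.1.base W a)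

/-- Injectivity is local. -/
theorem injective_of_locally (J : X.Modules)
    (hloc : ∀ x : X, ∃ U : X.Opens, x ∈ U ∧ Injective ((ModSite.restr X.sheaf U).obj J)) :
    Injective J :=
  injective_of_liftsIdeals J fun x => by
    obtain ⟨U, hx, hU⟩ := hloc x
    exact ⟨U, hx, liftsIdeals_of_injective J U hU⟩

end Groth.Agent.SheafHomLib
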